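import Groth.Prelude.Def_W4c1limliniiiiRamP1
import Groth.Agent.S13929
import Mathlib

/-! Pencils of polynomials with prescribed ramification at three points. -/

set_option autoImplicit false
universe u

open Polynomial W4c1limliniiii

namespace Groth.Agent.H23ThreePts

variable {k : Type u} [Field k]

/-- The weak ramification conditions on a space of polynomials. -/
def Weak (d : ℕ) (P : Fin 3 → k) (e : Fin 3 → ℕ) (V : Submodule k k[X]) : Prop :=
  V ≤ Polynomial.degreeLE k d ∧ Module.finrank k V = 2 ∧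
    ∀ i, ∃ s ∈ V, s ≠ 0 ∧ e i ≤ Polynomial.rootMultiplicity (P i) s

theorem weak_of_mem_ramMaps {d : ℕ} {P : Fin 3 → k} {e : Fin 3 → ℕ} {V : Submodule k k[X]}
    (h : V ∈ ramMaps d P e) : Weak d P e V :=
  ⟨h.1.1, h.1.2.1, fun i => (h.2.2 i).1⟩

theorem natDegree_le_of_mem {d : ℕ} {V : Submodule k k[X]} (hV : V ≤ Polynomial.degreeLE k d) {s : k[X]}
    (hs : s ∈ V) : s.natDegree ≤ d :=
  natDegree_le_iff_degree_le.mpr (mem_degreeLE.mp (hV hs))

/-- Two independent members span a pencil. -/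
theorem exists_eq_comb {V : Submodule k k[X]} (hV : Module.finrank k V = 2) {s t : k[X]} (hs : s ∈ V) (ht : t ∈ V)
    (hst : LinearIndependent k ![s, t]) {x : k[X]} (hx : x ∈ V) : ∃ a b : k, x = a • s + b • t := by
  haveI : FiniteDimensional k V := Module.finite_of_finrank_eq_succ hV
  have hle : Submodule.span k (Set.range ![s, t]) ≤ V := by
    rw [Submodule.span_le]
    rintro _ ⟨i, rfl⟩
    fin_cases i <;> assumption
  have heq := Submodule.eq_of_le_of_finrank_eq hle (by rw [finrank_span_eq_card hst, hV]; rfl)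
  rw [← heq] at hx
  simp only [Matrix.range_cons, Matrix.range_empty, Set.union_empty, Set.union_singleton] at hx
  rw [Submodule.mem_span_pair] at hx
  obtain ⟨a, b, hab⟩ := hx
  exact ⟨b, a, by rw [← hab, add_comm]⟩

theorem wronskian_comb (s t : k[X]) (a b c e : k) :
    wronskian (a • s + b • t) (c • s + e • t) = C (a * e - b * c) * wronskian s t := by
  simp only [wronskian, smul_eq_C_mul, derivative_add, derivative_C_mul, map_sub, map_mul]
  ring

variable {d : ℕ} {P : Fin 3 → k} {e : Fin 3 → ℕ}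

theorem exists_pair_dvd {V : Submodule k k[X]} (hV : Module.finrank k V = 2) {s : k[X]} (hs : s ∈ V) (hs0 : s ≠ 0) :
    ∃ t ∈ V, LinearIndependent k ![s, t] := by
  haveI : FiniteDimensional k V := Module.finite_of_finrank_eq_succ hV
  by_contra h
  push Not at h
  have hle : V ≤ k ∙ s := by
    intro x hx
    have h1 := h x hx
    rw [LinearIndependent.pair_iff' hs0] at h1
    push Not at h1
    obtain ⟨a, ha⟩ := h1
    exact Submodule.mem_span_singleton.mpr ⟨a, ha⟩
  have := Submodule.finrank_mono hle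
  rw [hV, finrank_span_singleton hs0] at this
  omega

/-- All Wronskians of a weakly ramified pencil are divisible by the ramification divisor. -/
theorem dvd_wronskian_of_mem {V : Submodule k k[X]} (hV : Weak d P e V) (i : Fin 3) {F G : k[X]}
    (hF : F ∈ V) (hG : G ∈ V) : (X - C (P i)) ^ (e i - 1) ∣ wronskian F G := by
  obtain ⟨s, hs, hs0, hse⟩ := hV.2.2 i
  obtain ⟨t, ht, hst⟩ := exists_pair_dvd hV.2.1 hs hs0
  obtain ⟨a, b, rfl⟩ := exists_eq_comb hV.2.1 hs ht hst hF
  obtain ⟨c, f, rfl⟩ := exists_eq_comb hV.2.1 hs ht hst hG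
  rw [wronskian_comb]
  exact (Groth.Agent.S13929.dvd_wronskian t ((le_rootMultiplicity_iff hs0).mp hse)).mul_left _

/-- The degree of a Wronskian of polynomials of degree at most `d`. -/
theorem natDegree_wronskian_le {F G : k[X]} (hF : F.natDegree ≤ d) (hG : G.natDegree ≤ d) :
    (wronskian F G).natDegree ≤ 2 * d - 2 := by
  by_contra h
  push Not at h
  have hne : wronskian F G ≠ 0 := fun h0 => by rw [h0, natDegree_zero] at h; omega
  have h1 := natDegree_wronskian_lt_add hne
  have h2 : (wronskian F G).natDegree = d + d - 1 := by omega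
  have h3 := Groth.Agent.S13929.coeff_wronskian F G hF hG
  rw [← h2, sub_self, mul_zero] at h3
  exact leadingCoeff_ne_zero.mpr hne h3

variable (hP : Function.Injective P) (he : ∀ i, 1 ≤ e i) (hsum : e 0 + e 1 + e 2 = 2 * d + 1)

include hP he hsum in
/-- The Wronskian of a weakly ramified pencil is a multiple of the ramification divisor. -/
theorem wronskian_eq {V : Submodule k k[X]} (hV : Weak d P e V) {F G : k[X]} (hF : F ∈ V) (hG : G ∈ V) :
    ∃ c : k, wronskian F G = C c * ∏ i, (X - C (P i)) ^ (e i - 1) := by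
  have hdvd : (∏ i, (X - C (P i)) ^ (e i - 1)) ∣ wronskian F G :=
    Fintype.prod_dvd_of_coprime (fun i j hij => (pairwise_coprime_X_sub_C hP hij).pow)
      fun i => dvd_wronskian_of_mem hV i hF hG
  obtain ⟨q, hq⟩ := hdvd
  rcases eq_or_ne q 0 with rfl | hq0
  · exact ⟨0, by simp [hq]⟩
  have hle := natDegree_wronskian_le (natDegree_le_of_mem hV.1 hF) (natDegree_le_of_mem hV.1 hG)
  have hmon : (∏ i, (X - C (P i)) ^ (e i - 1)).Monic := monic_prod_of_monic _ _ fun i _ => (monic_X_sub_C _).pow _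
  have hdeg : (∏ i, (X - C (P i)) ^ (e i - 1)).natDegree = 2 * d - 2 := by
    rw [natDegree_prod_of_monic _ _ fun i _ => (monic_X_sub_C _).pow _]
    simp only [(monic_X_sub_C _).natDegree_pow, natDegree_X_sub_C, mul_one, Fin.sum_univ_three]
    have := he 0; have := he 1; have := he 2
    omega
  rw [hq, hmon.natDegree_mul' hq0, hdeg] at hle
  exact ⟨q.coeff 0, by rw [hq, mul_comm, ← eq_C_of_natDegree_eq_zero (p := q) (by omega)]⟩

include hP he hsum in
/-- A separable weakly ramified pencil is a base point free pencil with exact ramification. -/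
theorem mem_ramMaps_of_isSeparable (hd : 2 ≤ d) {V : Submodule k k[X]} (hV : Weak d P e V)
    (hsep : IsSeparable V) : V ∈ ramMaps d P e := by
  obtain ⟨F, hF, G, hG, hW⟩ := hsep
  obtain ⟨c, hc⟩ := wronskian_eq hP he hsum hV hF hG
  set Q := ∏ i, (X - C (P i)) ^ (e i - 1) with hQdef
  have hc0 : c ≠ 0 := fun h => hW (by rw [hc, h, map_zero, zero_mul])
  have hmon : Q.Monic := monic_prod_of_monic _ _ fun i _ => (monic_X_sub_C _).pow _
  have hdeg : Q.natDegree = 2 * d - 2 := by
    rw [hQdef, natDegree_prod_of_monic _ _ fun i _ => (monic_X_sub_C _).pow _]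
    simp only [(monic_X_sub_C _).natDegree_pow, natDegree_X_sub_C, mul_one, Fin.sum_univ_three]
    have := he 0; have := he 1; have := he 2
    omega
  have hdvdW : ∀ q : k[X], q ∣ wronskian F G → q ∣ Q := by
    intro q hq
    rw [hc] at hq
    exact (IsUnit.dvd_mul_left ((isUnit_C).mpr (isUnit_iff_ne_zero.mpr hc0))).mp hq
  have hnot : ∀ i, ¬ (X - C (P i)) ^ e i ∣ Q := by
    intro i hdiv
    rw [hQdef, ← Finset.mul_prod_erase _ _ (Finset.mem_univ i),
      show (X - C (P i)) ^ e i = (X - C (P i)) ^ (e i - 1) * (X - C (P i)) by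
        rw [← pow_succ, Nat.sub_add_cancel (he i)],
      mul_dvd_mul_iff_left (pow_ne_zero _ (X_sub_C_ne_zero _))] at hdiv
    obtain ⟨j, hj, hjd⟩ := (Prime.dvd_finsetProd_iff (prime_X_sub_C (P i)) _).mp hdiv
    have := (prime_X_sub_C (P i)).dvd_of_dvd_pow hjd
    rw [dvd_iff_isRoot, IsRoot.def, eval_sub, eval_X, eval_C, sub_eq_zero] at this
    exact Finset.ne_of_mem_erase hj (hP this).symm
  obtain ⟨hle, hfin, hram⟩ := hV
  refine ⟨⟨hle, hfin, ?_, ?_⟩, ⟨F, hF, G, hG, hW⟩, fun i => ⟨hram i, ?_⟩⟩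
  · by_contra hd'
    push Not at hd'
    have h1 := natDegree_wronskian_lt_add hW
    have h2 : (wronskian F G).natDegree = 2 * d - 2 := by rw [hc, natDegree_C_mul hc0, hdeg]
    have := lt_of_le_of_ne (natDegree_le_of_mem hle hF) (hd' F hF)
    have := lt_of_le_of_ne (natDegree_le_of_mem hle hG) (hd' G hG)
    omega
  · intro a
    by_contra h
    push Not at h
    by_cases ha : ∃ i, P i = a
    · obtain ⟨i, rfl⟩ := ha
      obtain ⟨s, hs, hs0, hse⟩ := hram i
      obtain ⟨t, ht, hst⟩ := exists_pair_dvd hfin hs hs0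
      obtain ⟨a', b', rfl⟩ := exists_eq_comb hfin hs ht hst hF
      obtain ⟨c', f', rfl⟩ := exists_eq_comb hfin hs ht hst hG
      refine hnot i (hdvdW _ ?_)
      rw [wronskian_comb]
      refine Dvd.dvd.mul_left ?_ _
      have h1 := (le_rootMultiplicity_iff hs0).mp hse
      have h2 : (X - C (P i)) ∣ t := dvd_iff_isRoot.mpr (h t ht)
      refine dvd_sub (h1.mul_right _) ?_
      have := mul_dvd_mul (pow_sub_one_dvd_derivative_of_pow_dvd h1) h2
      rwa [← pow_succ, Nat.sub_add_cancel (he i)] at this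
    · have h1 : (X - C a) ∣ wronskian F G :=
        dvd_sub ((dvd_iff_isRoot.mpr (h F hF)).mul_right _) ((dvd_iff_isRoot.mpr (h G hG)).mul_left _)
      obtain ⟨j, -, hj⟩ := (Prime.dvd_finsetProd_iff (prime_X_sub_C a) _).mp (hdvdW _ h1)
      have := (prime_X_sub_C a).dvd_of_dvd_pow hj
      rw [dvd_iff_isRoot, IsRoot.def, eval_sub, eval_X, eval_C, sub_eq_zero] at this
      exact ha ⟨j, this.symm⟩
  · intro s hs hs0
    by_contra hlt
    push Not at hlt
    obtain ⟨t, ht, hst⟩ := exists_pair_dvd hfin hs hs0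
    obtain ⟨a', b', rfl⟩ := exists_eq_comb hfin hs ht hst hF
    obtain ⟨c', f', rfl⟩ := exists_eq_comb hfin hs ht hst hG
    refine hnot i (hdvdW _ ?_)
    rw [wronskian_comb]
    refine Dvd.dvd.mul_left ?_ _
    have := Groth.Agent.S13929.dvd_wronskian t ((le_rootMultiplicity_iff hs0).mp
      (show e i + 1 ≤ rootMultiplicity (P i) s from hlt))
    simpa using this

include hP hsum in
theorem eq_zero_of_dvd_of_dvd (hed : ∀ i, e i ≤ d) {i j : Fin 3} (hij : i ≠ j) {s : k[X]} (hs : s.natDegree ≤ d)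
    (hi : (X - C (P i)) ^ e i ∣ s) (hj : (X - C (P j)) ^ e j ∣ s) : s = 0 := by
  by_contra hs0
  have := natDegree_le_of_dvd ((pairwise_coprime_X_sub_C hP hij).pow.mul_dvd hi hj) hs0
  rw [((monic_X_sub_C _).pow _).natDegree_mul ((monic_X_sub_C _).pow _), (monic_X_sub_C _).natDegree_pow,
    (monic_X_sub_C _).natDegree_pow, natDegree_X_sub_C, natDegree_X_sub_C] at this
  have := hed 0; have := hed 1; have := hed 2
  have h0 := hed 0
  have h1 := hed 1
  have h2 := hed 2
  fin_cases i <;> fin_cases j <;> first | exact absurd rfl hij | (simp only [Fin.isValue, Fin.zero_eta, Fin.mk_one, Fin.reduceFinMk, mul_one] at *; omega)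

include hP hsum in
/-- Normalised members of a weakly ramified pencil. -/
theorem exists_triple (hed : ∀ i, e i ≤ d) {V : Submodule k k[X]} (hV : Weak d P e V) :
    ∃ s : Fin 3 → k[X], (∀ i, s i ∈ V ∧ s i ≠ 0 ∧ (X - C (P i)) ^ e i ∣ s i) ∧ s 2 = s 0 + s 1 ∧
      LinearIndependent k ![s 0, s 1] := by
  choose s hs hs0 hse using hV.2.2
  have hdv : ∀ i, (X - C (P i)) ^ e i ∣ s i := fun i => (le_rootMultiplicity_iff (hs0 i)).mp (hse i)
  have hind : ∀ i j, i ≠ j → LinearIndependent k ![s i, s j] := by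
    intro i j hij
    rw [LinearIndependent.pair_iff' (hs0 i)]
    intro a ha
    exact hs0 j (eq_zero_of_dvd_of_dvd hP hsum hed hij (natDegree_le_of_mem hV.1 (hs j))
      (ha ▸ (by rw [smul_eq_C_mul]; exact (hdv i).mul_left _)) (hdv j))
  obtain ⟨a, b, hab⟩ := exists_eq_comb hV.2.1 (hs 0) (hs 1) (hind 0 1 (by decide)) (hs 2)
  have ha : a ≠ 0 := fun h => by
    rw [h, zero_smul, zero_add] at hab
    exact (LinearIndependent.pair_iff' (hs0 1)).mp (hind 1 2 (by decide)) b hab.symm
  have hb : b ≠ 0 := fun h => by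
    rw [h, zero_smul, add_zero] at hab
    exact (LinearIndependent.pair_iff' (hs0 0)).mp (hind 0 2 (by decide)) a hab.symm
  refine ⟨![a • s 0, b • s 1, s 2], fun i => ?_, hab, ?_⟩
  · fin_cases i
    · exact ⟨V.smul_mem a (hs 0), smul_ne_zero ha (hs0 0), by simp only [smul_eq_C_mul]; exact (hdv 0).mul_left _⟩
    · exact ⟨V.smul_mem b (hs 1), smul_ne_zero hb (hs0 1), by simp only [smul_eq_C_mul]; exact (hdv 1).mul_left _⟩
    · exact ⟨hs 2, hs0 2, hdv 2⟩
  · show LinearIndependent k ![a • s 0, b • s 1]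
    rw [LinearIndependent.pair_iff]
    intro x y hxy
    rw [smul_smul, smul_smul] at hxy
    obtain ⟨h1, h2⟩ := LinearIndependent.pair_iff.mp (hind 0 1 (by decide)) _ _ hxy
    exact ⟨(mul_eq_zero.mp h1).resolve_right ha, (mul_eq_zero.mp h2).resolve_right hb⟩

include hP he hsum in
/-- A base point free weakly ramified pencil is the only weakly ramified one. -/
theorem eq_of_weak [IsAlgClosed k] (hed : ∀ i, e i ≤ d) {V V' : Submodule k k[X]} (hV : V ∈ ramMaps d P e)
    (hV' : Weak d P e V') : V' = V := by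
  have hw := weak_of_mem_ramMaps hV
  obtain ⟨s, hs, hs2, hind⟩ := exists_triple hP hsum hed hw
  obtain ⟨t, ht, ht2, hind'⟩ := exists_triple hP hsum hed hV'
  let q : Fin 3 → k[X] := fun i => (X - C (P i)) ^ e i
  have hds : ∀ i, (s i).natDegree ≤ d := fun i => natDegree_le_of_mem hw.1 (hs i).1
  have hdt : ∀ i, (t i).natDegree ≤ d := fun i => natDegree_le_of_mem hV'.1 (ht i).1
  have hcop : ∀ i j, i ≠ j → IsCoprime (q i) (q j) := fun i j hij => (pairwise_coprime_X_sub_C hP hij).pow
  have hcross : s 0 * t 1 = t 0 * s 1 := by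
    have hrel : s 0 * t 1 - t 0 * s 1 = s 0 * t 2 - t 0 * s 2 := by rw [hs2, ht2]; ring
    have h01 : q 0 * q 1 ∣ s 0 * t 1 - t 0 * s 1 :=
      dvd_sub (mul_dvd_mul (hs 0).2.2 (ht 1).2.2) (mul_dvd_mul (ht 0).2.2 (hs 1).2.2)
    have h2 : q 2 ∣ s 0 * t 1 - t 0 * s 1 := by
      rw [hrel]
      exact dvd_sub ((ht 2).2.2.mul_left _) ((hs 2).2.2.mul_left _)
    have hall : q 0 * q 1 * q 2 ∣ s 0 * t 1 - t 0 * s 1 :=
      ((hcop 0 2 (by decide)).mul_left (hcop 1 2 (by decide))).mul_dvd h01 h2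
    by_contra hne
    have hne' := sub_ne_zero.mpr hne
    have h3 := natDegree_le_of_dvd hall hne'
    have hm : ∀ i, (q i).Monic := fun i => (monic_X_sub_C _).pow _
    have hq : ∀ i, (q i).natDegree = e i := fun i => by
      simp only [q, (monic_X_sub_C _).natDegree_pow, natDegree_X_sub_C, mul_one]
    rw [((hm 0).mul (hm 1)).natDegree_mul (hm 2), (hm 0).natDegree_mul (hm 1), hq, hq, hq] at h3
    have h4 : (s 0 * t 1 - t 0 * s 1).natDegree ≤ 2 * d :=
      (natDegree_sub_le _ _).trans (max_le (natDegree_mul_le.trans (by have := hds 0; have := hdt 1; omega))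
        (natDegree_mul_le.trans (by have := hdt 0; have := hds 1; omega)))
    omega
  have hco : IsCoprime (s 0) (s 1) := by
    rw [isCoprime_iff_aeval_ne_zero_of_isAlgClosed k k]
    intro a
    obtain ⟨x, hx, hxa⟩ := hV.1.2.2.2 a
    obtain ⟨α, β, rfl⟩ := exists_eq_comb hw.2.1 (hs 0).1 (hs 1).1 hind hx
    by_contra hh
    push Not at hh
    simp only [coe_aeval_eq_eval] at hh
    exact hxa (by simp [hh.1, hh.2])
  obtain ⟨g, hg⟩ : s 0 ∣ t 0 := hco.dvd_of_dvd_mul_right ⟨t 1, hcross.symm⟩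
  have hg1 : t 1 = g * s 1 := mul_left_cancel₀ (hs 0).2.1 (by rw [hcross, hg]; ring)
  have hg0 : g ≠ 0 := fun h => (ht 0).2.1 (by rw [hg, h, mul_zero])
  have hgd : g.natDegree = 0 := by
    obtain ⟨x, hx, hxd⟩ := hV.1.2.2.1
    obtain ⟨α, β, rfl⟩ := exists_eq_comb hw.2.1 (hs 0).1 (hs 1).1 hind hx
    rcases eq_or_ne d 0 with hd0 | hd0
    · have := hed 0; have := he 0; omega
    have hmem : g * (α • s 0 + β • s 1) ∈ V' := by
      have : g * (α • s 0 + β • s 1) = α • t 0 + β • t 1 := by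
        rw [hg, hg1, mul_add, mul_smul_comm, mul_smul_comm, mul_comm g]
      rw [this]
      exact add_mem (V'.smul_mem _ (ht 0).1) (V'.smul_mem _ (ht 1).1)
    have hx0 : α • s 0 + β • s 1 ≠ 0 := fun h => by rw [h, natDegree_zero] at hxd; exact hd0 hxd.symm
    have := natDegree_le_of_mem hV'.1 hmem
    rw [natDegree_mul hg0 hx0, hxd] at this
    omega
  rw [eq_C_of_natDegree_eq_zero hgd] at hg hg1
  rw [mul_comm] at hg
  haveI : FiniteDimensional k V := Module.finite_of_finrank_eq_succ hw.2.1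
  haveI : FiniteDimensional k V' := Module.finite_of_finrank_eq_succ hV'.2.1
  refine Submodule.eq_of_le_of_finrank_eq (fun x hx => ?_) (hV'.2.1.trans hw.2.1.symm)
  obtain ⟨α, β, rfl⟩ := exists_eq_comb hV'.2.1 (ht 0).1 (ht 1).1 hind' hx
  rw [hg, hg1, ← smul_eq_C_mul, ← smul_eq_C_mul]
  exact add_mem (V.smul_mem _ (V.smul_mem _ (hs 0).1)) (V.smul_mem _ (V.smul_mem _ (hs 1).1))

include hP hsum in
/-- A weakly ramified pencil exists. -/
theorem exists_weak (hed : ∀ i, e i ≤ d) : ∃ V : Submodule k k[X], Weak d P e V := by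
  let T := (i : Fin 3) → degreeLT k (d + 1 - e i)
  let φ : T →ₗ[k] k[X] := ∑ i, (LinearMap.mulLeft k ((X - C (P i)) ^ e i)).comp
    ((degreeLT k (d + 1 - e i)).subtype.comp (LinearMap.proj i))
  have hφ : ∀ a, φ a = ∑ i, (X - C (P i)) ^ e i * (a i : k[X]) := fun a => by
    simp [φ, LinearMap.sum_apply]
    rfl
  have hterm : ∀ (a : T) (i), ((X - C (P i)) ^ e i * (a i : k[X])) ∈ degreeLT k (d + 1) := by
    intro a i
    rw [mem_degreeLT]
    rcases eq_or_ne (a i : k[X]) 0 with h | h
    · rw [h, mul_zero, degree_zero]; exact WithBot.bot_lt_coe _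
    have h1 : (a i : k[X]).natDegree < d + 1 - e i := by
      have := mem_degreeLT.mp (a i).2
      rwa [degree_eq_natDegree h, Nat.cast_lt] at this
    rw [degree_eq_natDegree (mul_ne_zero (pow_ne_zero _ (X_sub_C_ne_zero _)) h),
      natDegree_mul (pow_ne_zero _ (X_sub_C_ne_zero _)) h, (monic_X_sub_C _).natDegree_pow, natDegree_X_sub_C,
      Nat.cast_lt]
    omega
  let ψ : T →ₗ[k] degreeLT k (d + 1) := φ.codRestrict _ fun a => by
    rw [hφ]; exact Submodule.sum_mem _ fun i _ => hterm a i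
  haveI : ∀ m, FiniteDimensional k (degreeLT k m) := fun m => (degreeLTEquiv k m).symm.finiteDimensional
  have hdim : ∀ m, Module.finrank k (degreeLT k m) = m := fun m => by
    rw [(degreeLTEquiv k m).finrank_eq, Module.finrank_fin_fun]
  have hker : LinearMap.ker ψ ≠ ⊥ := by
    refine LinearMap.ker_ne_bot_of_finrank_lt ?_
    rw [Module.finrank_pi_fintype, hdim]
    simp only [hdim, Fin.sum_univ_three]
    have := hed 0; have := hed 1; have := hed 2
    omega
  obtain ⟨a, ha, ha0⟩ := Submodule.exists_mem_ne_zero_of_ne_bot hker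
  let s : Fin 3 → k[X] := fun i => (X - C (P i)) ^ e i * (a i : k[X])
  have hsdeg : ∀ i, (s i).natDegree ≤ d := fun i => by
    rcases eq_or_ne (s i) 0 with h | h
    · rw [h, natDegree_zero]; omega
    · have := mem_degreeLT.mp (hterm a i)
      rw [show (X - C (P i)) ^ e i * (a i : k[X]) = s i from rfl, degree_eq_natDegree h, Nat.cast_lt] at this
      omega
  have hrel : s 0 + s 1 + s 2 = 0 := by
    have h : φ a = 0 := congrArg Subtype.val (LinearMap.mem_ker.mp ha)
    rwa [hφ, Fin.sum_univ_three] at h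
  have key : ∀ i j : Fin 3, i ≠ j → ∀ c : k, s j = c • s i → s j = 0 := fun i j hij c hc =>
    eq_zero_of_dvd_of_dvd hP hsum hed hij (hsdeg j)
      (by rw [hc, smul_eq_C_mul]; exact (dvd_mul_right _ _).mul_left _) (dvd_mul_right _ _)
  have hex : ∃ i, s i ≠ 0 := by
    by_contra h
    push Not at h
    exact ha0 (funext fun i => Subtype.ext ((mul_eq_zero.mp (h i)).resolve_left (pow_ne_zero _ (X_sub_C_ne_zero _))))
  have hs : ∀ i, s i ≠ 0 := by
    have h01 : s 0 = 0 → s 1 = 0 ∧ s 2 = 0 := fun h => by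
      have h2 : s 2 = (-1 : k) • s 1 := by rw [neg_one_smul]; linear_combination hrel - h
      have := key 1 2 (by decide) _ h2
      exact ⟨by linear_combination hrel - h - this, this⟩
    have h11 : s 1 = 0 → s 0 = 0 ∧ s 2 = 0 := fun h => by
      have h2 : s 2 = (-1 : k) • s 0 := by rw [neg_one_smul]; linear_combination hrel - h
      have := key 0 2 (by decide) _ h2
      exact ⟨by linear_combination hrel - h - this, this⟩
    have h21 : s 2 = 0 → s 0 = 0 ∧ s 1 = 0 := fun h => by
      have h2 : s 1 = (-1 : k) • s 0 := by rw [neg_one_smul]; linear_combination hrel - h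
      have := key 0 1 (by decide) _ h2
      exact ⟨by linear_combination hrel - h - this, this⟩
    obtain ⟨i, hi⟩ := hex
    intro j hj
    fin_cases i <;> fin_cases j <;> simp_all
  have hind : LinearIndependent k ![s 0, s 1] := by
    rw [LinearIndependent.pair_iff' (hs 0)]
    exact fun c hc => hs 1 (key 0 1 (by decide) c hc.symm)
  refine ⟨Submodule.span k (Set.range ![s 0, s 1]), ?_, ?_, fun i => ⟨s i, ?_, hs i, ?_⟩⟩
  · rw [Submodule.span_le]
    rintro _ ⟨i, rfl⟩
    rw [SetLike.mem_coe, mem_degreeLE, ← natDegree_le_iff_degree_le]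
    fin_cases i <;> exact hsdeg _
  · rw [finrank_span_eq_card hind]; rfl
  · have h0 : s 0 ∈ Submodule.span k (Set.range ![s 0, s 1]) := Submodule.subset_span ⟨0, rfl⟩
    have h1 : s 1 ∈ Submodule.span k (Set.range ![s 0, s 1]) := Submodule.subset_span ⟨1, rfl⟩
    fin_cases i
    · exact h0
    · exact h1
    · show s 2 ∈ _
      rw [show s 2 = -(s 0 + s 1) by linear_combination hrel]
      exact neg_mem (add_mem h0 h1)
  · exact (le_rootMultiplicity_iff (hs i)).mpr (dvd_mul_right _ _)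

end Groth.Agent.H23ThreePts
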